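import Mathlib
import Cfsg.Agent.H137.HermOddTwo

/-!
# TEAM GEN, S4180: diagonal subgroups of `SU` (helper911)

`Tz v`: the elements of `SU n F q` for which all `v i` are eigenvectors.
-/

set_option autoImplicit false

namespace Cfsg.Agent.H911.DG

open Cfsg Cfsg.Agent.LieClassical.HermBasic Cfsg.Agent.LieClassical.HermSiegel
  Cfsg.Agent.LieClassical.HermGen Cfsg.Agent.H137.Herm Matrix

section Tz

variable {F : Type*} [Field F] {q n : ℕ} {ι : Type}

theorem act_inv_of {g : SU n F q} {x y : Fin n → F} {a : F} (ha : a ≠ 0) (h : act g x = a • y) :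
    act g⁻¹ y = a⁻¹ • x := by
  have h1 : act g⁻¹ (a • y) = x := by rw [← h, act_inv_act]
  rw [act_smul] at h1
  rw [← h1, smul_smul, inv_mul_cancel₀ ha, one_smul]

/-- The diagonal elements with respect to a frame. -/
def Tz (v : ι → Fin n → F) : Subgroup (SU n F q) where
  carrier := {g | ∀ i, ∃ a : F, a ≠ 0 ∧ act g (v i) = a • v i}
  one_mem' := fun i => ⟨1, one_ne_zero, by rw [act_one, one_smul]⟩
  mul_mem' := by
    intro g h hg hh i
    obtain ⟨a, ha, ha'⟩ := hg i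
    obtain ⟨b, hb, hb'⟩ := hh i
    exact ⟨b * a, mul_ne_zero hb ha, by rw [act_mul, hb', act_smul, ha', smul_smul]⟩
  inv_mem' := by
    intro g hg i
    obtain ⟨a, ha, ha'⟩ := hg i
    exact ⟨a⁻¹, inv_ne_zero ha, act_inv_of ha ha'⟩

theorem mem_Tz {v : ι → Fin n → F} {g : SU n F q} :
    g ∈ (Tz v : Subgroup (SU n F q)) ↔ ∀ i, ∃ a : F, a ≠ 0 ∧ act g (v i) = a • v i := Iff.rfl

variable {v : ι → Fin n → F} {w : SU n F q} {γ : ι → F}

/-- Monomial elements normalize the diagonal subgroup. -/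
theorem Tz_conj (π : Equiv.Perm ι) (hγ : ∀ i, γ i ≠ 0) (hw : ∀ i, act w (v i) = γ i • v (π i)) :
    ∀ h ∈ (Tz v : Subgroup (SU n F q)), w * h * w⁻¹ ∈ (Tz v : Subgroup (SU n F q)) := by
  intro h hh i
  obtain ⟨a, ha, ha'⟩ := hh (π.symm i)
  refine ⟨a, ha, ?_⟩
  have h1 := act_conj_eig (hγ (π.symm i)) (hw (π.symm i)) ha'
  rwa [Equiv.apply_symm_apply] at h1

theorem Tz_conj' (π : Equiv.Perm ι) (hγ : ∀ i, γ i ≠ 0) (hw : ∀ i, act w (v i) = γ i • v (π i)) :
    ∀ h ∈ (Tz v : Subgroup (SU n F q)), w⁻¹ * h * w ∈ (Tz v : Subgroup (SU n F q)) := by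
  intro h hh i
  obtain ⟨a, ha, ha'⟩ := hh (π i)
  refine ⟨a, ha, ?_⟩
  have h1 := act_conj_eig (inv_ne_zero (hγ i)) (act_inv_of (hγ i) (hw i)) ha'
  rwa [inv_inv] at h1

/-- An element with different eigenvalues on `x` and `w x` is not central. -/
theorem not_mem_center {h w : SU n F q} {x y : Fin n → F} {a b g : F} (hy : y ≠ 0) (hg : g ≠ 0)
    (hw : act w x = g • y) (hx : act h x = a • x) (hy' : act h y = b • y) (hab : a ≠ b) :
    h ∉ Subgroup.center (SU n F q) := by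
  intro hc
  have h1 := congrArg (fun t => act t x) (Subgroup.mem_center_iff.1 hc w)
  simp only [act_mul, hw, hx, act_smul, hy', smul_smul] at h1
  have h2 : (a * g - g * b) • y = 0 := by rw [sub_smul, h1, sub_self]
  rcases smul_eq_zero.1 h2 with h3 | h3
  · apply hab
    have h4 : (a - b) * g = 0 := by linear_combination h3
    rcases mul_eq_zero.1 h4 with h5 | h5
    · exact sub_eq_zero.1 h5
    · exact absurd h5 hg
  · exact hy h3

end Tz

section Cop

variable {F : Type*} [Field F] [Fintype F] {q n : ℕ} {ι : Type} [DecidableEq ι] [Fintype ι]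
  {σ : ι → ι} {v : ι → Fin n → F}

theorem eq_one_of_pow_char {p : ℕ} (hp : p.Prime) [CharP F p] {a : F} (h : a ^ p = 1) : a = 1 := by
  have : Fact p.Prime := ⟨hp⟩
  have h1 : (a - 1) ^ p = 0 := by rw [sub_pow_char, h, one_pow, sub_self]
  exact sub_eq_zero.1 (eq_zero_of_pow_eq_zero h1)

theorem eq_one_of_Tz (W : Witt q σ v) (hc : Fintype.card ι = n) {p : ℕ} (hp : p.Prime) [CharP F p]
    {g : SU n F q} (hg : g ∈ (Tz v : Subgroup (SU n F q))) (hgp : g ^ p = 1) : g = 1 := by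
  apply W.ext hc
  intro i
  obtain ⟨a, ha, hga⟩ := hg i
  have h1 := act_pow_eig hga p
  rw [hgp, act_one] at h1
  have hv0 : v i ≠ 0 := by
    intro h0
    have h2 := W.gram i (σ i)
    rw [if_pos rfl, h0, herm_zero_left] at h2
    exact zero_ne_one h2
  have h2 : (a ^ p - 1) • v i = 0 := by rw [sub_smul, ← h1, one_smul, sub_self]
  have h3 : a ^ p = 1 := by
    rcases smul_eq_zero.1 h2 with h | h
    · exact sub_eq_zero.1 h
    · exact absurd h hv0
  rw [hga, eq_one_of_pow_char hp h3, one_smul, act_one]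

theorem Tz_coprime (W : Witt q σ v) (hc : Fintype.card ι = n) {p : ℕ} (hp : p.Prime) [CharP F p] :
    ¬ p ∣ Nat.card (Tz v : Subgroup (SU n F q)) := by
  intro h
  have : Fact p.Prime := ⟨hp⟩
  obtain ⟨g, hg⟩ := exists_prime_orderOf_dvd_card' p h
  have hgp : (g : SU n F q) ^ p = 1 := by
    have := pow_orderOf_eq_one g
    rw [hg] at this
    exact_mod_cast congrArg Subtype.val this
  have h1 : g = 1 := Subtype.ext (eq_one_of_Tz W hc hp g.2 hgp)
  rw [h1, orderOf_one] at hg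
  exact hp.one_lt.ne hg

end Cop

/-! ### Elements of small fields -/

section Field

variable {F : Type*} [Field F] [Fintype F] {q : ℕ}

/-- A generator of the multiplicative group of the subfield with `q` elements. -/
theorem exists_sub_gen (hF : Fintype.card F = q ^ 2) : ∃ s : F, s ≠ 0 ∧ s ^ q = s ∧
    ∀ k : ℕ, 0 < k → k < q - 1 → s ^ k ≠ 1 := by
  obtain ⟨z, hz0, hz1, hz2⟩ := exists_gen hF
  have hq2 : z ^ (q ^ 2) = z := by rw [← hF]; exact FiniteField.pow_card z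
  refine ⟨z ^ (q + 1), pow_ne_zero _ hz0, ?_, ?_⟩
  · rw [← pow_mul, add_mul, one_mul, ← pow_two, pow_add, hq2, pow_succ, mul_comm]
  · intro k hk hk' h
    rw [← pow_mul] at h
    have h2 : 2 ≤ q := two_le hF
    obtain ⟨r, rfl⟩ : ∃ r, q = r + 1 := ⟨q - 1, by omega⟩
    refine hz2 ((r + 1 + 1) * k) (by positivity) ?_ h
    have h3 : k + 1 ≤ r := by omega
    have h4 : (r + 1 + 1) * (k + 1) ≤ (r + 1 + 1) * r := Nat.mul_le_mul_left _ h3
    have h5 : (r + 1) ^ 2 - 1 = (r + 1 + 1) * r := by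
      have : (r + 1) ^ 2 = (r + 1 + 1) * r + 1 := by ring
      omega
    rw [h5]
    have h6 : (r + 1 + 1) * (k + 1) = (r + 1 + 1) * k + (r + 1 + 1) := by ring
    omega

theorem exists_sub_ne_one (hF : Fintype.card F = q ^ 2) (hq : 3 ≤ q) : ∃ s : F, s ≠ 0 ∧ s ^ q = s ∧ s ≠ 1 := by
  obtain ⟨s, h0, h1, h2⟩ := exists_sub_gen hF
  exact ⟨s, h0, h1, by have := h2 1 one_pos (by omega); rwa [pow_one] at this⟩

theorem exists_sub_sq_ne_one (hF : Fintype.card F = q ^ 2) (hq : 4 ≤ q) :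
    ∃ s : F, s ≠ 0 ∧ s ^ q = s ∧ s ^ 2 ≠ 1 := by
  obtain ⟨s, h0, h1, h2⟩ := exists_sub_gen hF
  exact ⟨s, h0, h1, h2 2 two_pos (by omega)⟩

end Field

end Cfsg.Agent.H911.DG
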