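import Mathlib
import Cfsg.Agent.H911.DG.PsuTor

/-!
# TEAM GEN, S4180: `SU` in even dimension is generated by the diagonal subgroup, a Siegel element and a
Weyl element; a diagonal element commuting with the Siegel element (helper911)
-/

set_option autoImplicit false

namespace Cfsg.Agent.H911.DG

open Cfsg Cfsg.Agent.LieClassical.HermBasic Cfsg.Agent.LieClassical.HermSiegel
  Cfsg.Agent.LieClassical.HermGen Cfsg.Agent.H137.Herm Matrix

variable {F : Type*} [Field F] [Fintype F] {q n : ℕ}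

/-- A Siegel element commutes with elements having suitable eigenvalues. -/
theorem comm_of_eig {hF : Fintype.card F = q ^ 2} {u r : Fin n → F} {μ : F} (hk : IsSiegel q u r μ)
    {h : SU n F q} {s t : F} (hs : act h u = s • u) (ht : act h r = t • r) (h1 : s ^ q * t = 1)
    (h2 : s * s ^ q * μ = μ) (h3 : t * t ^ q = 1 ∨ (μ = 0 ∧ hermForm n F q r r = 0)) :
    h * siegel hF u r μ hk = siegel hF u r μ hk * h := by
  have hSt : SE hF (siegel hF u r μ hk) u r μ := ⟨hk, rfl⟩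
  have h4 := (hSt.conj_eig hs ht h3).congr rfl (by rw [h1, one_smul]) h2
  obtain ⟨k, h4⟩ := h4
  exact mul_inv_eq_iff_eq_mul.1 h4

section Even

variable {m : ℕ} [NeZero m] [NeZero (2 * m)] {v : ZMod (2 * m) → Fin (2 * m) → F}

theorem exists_two (hF : Fintype.card F = q ^ 2) (W : Witt q (fun j => j + (m : ZMod (2 * m))) v)
    (i0 i1 : ZMod (2 * m)) {a b : F} (ha : a ≠ 0) (hb : b ≠ 0) (hab : a * b = a ^ q * b ^ q) :
    ∃ S : SU (2 * m) F q, S ∈ (Tz v : Subgroup (SU (2 * m) F q)) ∧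
      ∀ j, act S (v j) = (dg i0 a (a ^ q)⁻¹ j * dg i1 b (b ^ q)⁻¹ j) • v j := by
  have hc : Fintype.card (ZMod (2 * m)) = 2 * m := ZMod.card _
  have haq : a ^ q ≠ 0 := pow_ne_zero _ ha
  have hbq : b ^ q ≠ 0 := pow_ne_zero _ hb
  obtain ⟨S, hS⟩ : ∃ S : SU (2 * m) F q, ∀ j, act S (v j) =
      (fun j => dg i0 a (a ^ q)⁻¹ j * dg i1 b (b ^ q)⁻¹ j) j • v ((1 : Equiv.Perm (ZMod (2 * m))) j) := by
    refine W.exists_mono hF hc 1 (fun i => rfl) _ ?_ ?_
    · intro i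
      have e1 := dg_norm (m := m) (q := q) (i0 := i0) (a := a) (b := (a ^ q)⁻¹)
        (by rw [inv_pow, pow_q_pow_q hF, mul_inv_cancel₀ ha]) (inv_mul_cancel₀ haq) i
      have e2 := dg_norm (m := m) (q := q) (i0 := i1) (a := b) (b := (b ^ q)⁻¹)
        (by rw [inv_pow, pow_q_pow_q hF, mul_inv_cancel₀ hb]) (inv_mul_cancel₀ hbq) i
      rw [mul_pow]
      linear_combination (dg i1 b (b ^ q)⁻¹ i * dg i1 b (b ^ q)⁻¹ (i + (m : ZMod (2 * m))) ^ q) * e1 + e2
    · rw [Finset.prod_mul_distrib, dg_prod, dg_prod]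
      simp only [Equiv.Perm.sign_one, Units.val_one, Int.cast_one, one_mul]
      field_simp
      linear_combination hab
  refine ⟨S, fun i => ⟨_, mul_ne_zero (dg_ne ha (inv_ne_zero haq) i) (dg_ne hb (inv_ne_zero hbq) i),
    hS i⟩, hS⟩

/-- The Weyl element. -/
theorem exists_weyl (hF : Fintype.card F = q ^ 2)
    (W : Witt q (fun j => j + (m : ZMod (2 * m))) v) :
    ∃ γ : ZMod (2 * m) → F, (∀ j, γ j ≠ 0) ∧ ∃ w : SU (2 * m) F q,
      ∀ j, act w (v j) = γ j • v (j + 1) := by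
  have hc : Fintype.card (ZMod (2 * m)) = 2 * m := ZMod.card _
  obtain ⟨g, hg0, hg⟩ := exists_sign hF (Equiv.Perm.sign (Equiv.addRight (1 : ZMod (2 * m))))
  have hgq : g ^ q ≠ 0 := pow_ne_zero _ hg0
  have hgi : (g ^ q)⁻¹ ≠ 0 := inv_ne_zero hgq
  refine ⟨dg 0 g (g ^ q)⁻¹, dg_ne hg0 hgi, ?_⟩
  refine W.exists_mono hF hc (Equiv.addRight 1) ?_ _ ?_ ?_
  · intro i
    simp only [Equiv.coe_addRight]
    ring
  · apply dg_norm
    · rw [inv_pow, pow_q_pow_q hF, mul_inv_cancel₀ hg0]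
    · exact inv_mul_cancel₀ hgq
  · rw [dg_prod, ← mul_assoc, ← hg, mul_inv_cancel₀ hgq]

theorem isSiegel_even (hF : Fintype.card F = q ^ 2) (hm : 2 ≤ m)
    (W : Witt q (fun j => j + (m : ZMod (2 * m))) v) :
    IsSiegel q (v 0) (v ((m : ZMod (2 * m)) + 1)) (0 : F) := by
  have hv : Std q v := W.gram
  have hne : (m : ZMod (2 * m)) + 1 ≠ 0 + (m : ZMod (2 * m)) := by
    rw [zero_add]
    intro h
    have h10 : (1 : ZMod (2 * m)) ≠ 0 := by
      rw [← Nat.cast_one, ← Nat.cast_zero, Ne, cast_inj (by omega) (by omega)]; omega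
    exact h10 (add_eq_left.1 h)
  exact ⟨hv.iso 0, hv.orth' hne, by rw [hv.iso, zero_pow_q hF]; ring⟩

/-- Generation in even dimension. -/
theorem even_gen (hF : Fintype.card F = q ^ 2) (hm : 2 ≤ m)
    (W : Witt q (fun j => j + (m : ZMod (2 * m))) v) {γ : ZMod (2 * m) → F} (hγ0 : ∀ j, γ j ≠ 0)
    {w : SU (2 * m) F q} (hw : ∀ j, act w (v j) = γ j • v (j + 1))
    (hk : IsSiegel q (v 0) (v ((m : ZMod (2 * m)) + 1)) (0 : F)) {H : Subgroup (SU (2 * m) F q)}
    (hT : (Tz v : Subgroup (SU (2 * m) F q)) ≤ H)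
    (htH : siegel hF (v 0) (v ((m : ZMod (2 * m)) + 1)) 0 hk ∈ H) (hwH : w ∈ H) : H = ⊤ := by
  have hv : Std q v := W.gram
  have hc : Fintype.card (ZMod (2 * m)) = 2 * m := ZMod.card _
  obtain ⟨z, hz0, hz1, hz2⟩ := exists_gen hF
  have hzq : z ^ q ≠ 0 := pow_ne_zero _ hz0
  obtain ⟨S, hST, hS⟩ := exists_two hF W 0 1 hz0 (inv_ne_zero hz0)
    (by rw [inv_pow, mul_inv_cancel₀ hz0, mul_inv_cancel₀ hzq])
  have hSH : S ∈ H := hT hST
  have h10 : (1 : ZMod (2 * m)) ≠ 0 := by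
    rw [← Nat.cast_one, ← Nat.cast_zero, Ne, cast_inj (by omega) (by omega)]; omega
  have h1m : (1 : ZMod (2 * m)) ≠ (m : ZMod (2 * m)) := by
    rw [← Nat.cast_one, Ne, cast_inj (by omega) (by omega)]; omega
  have hS0 : act S (v 0) = z • v 0 := by
    rw [hS, dg_self, dg_other, mul_one]
    · exact h10.symm
    · intro h
      apply h1m
      have := congrArg (fun t => t + (m : ZMod (2 * m))) h
      simp only [zero_add, add_half_half] at this
      exact this.symm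
  have hS1 : act S (v ((m : ZMod (2 * m)) + 1)) = z ^ q • v ((m : ZMod (2 * m)) + 1) := by
    rw [hS, add_comm (m : ZMod (2 * m)) 1, dg_half, dg_other, one_mul, inv_pow, inv_inv]
    · intro h
      apply h1m
      have h' := congrArg (fun t => t + (m : ZMod (2 * m))) h
      simp only [zero_add, add_half_half] at h'
      exact h'
    · rw [zero_add]
      intro h
      exact h10 (add_eq_right.1 h)
  -- everything
  have hone : (1 : F) ∈ RS hF H (v 0) (v ((m : ZMod (2 * m)) + 1)) (hv.iso 0) (hv.iso _) := by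
    rw [mem_RS, one_smul]
    exact ⟨hk, htH⟩
  have hall : ∀ a, a ∈ RS hF H (v 0) (v ((m : ZMod (2 * m)) + 1)) (hv.iso 0) (hv.iso _) := by
    refine mem_of_sq _ ?_ hone one_ne_zero
    intro c hc0 y hy
    obtain ⟨k, hk⟩ := hz1 (c ^ q) (pow_ne_zero _ hc0)
    have h3 := RS_mul hSH hz0 hS0 hS1 hy k
    have e : (z ^ q * z ^ q) ^ k = c ^ 2 := by
      rw [← pow_two, ← pow_mul, ← pow_mul, mul_comm q (2 * k), mul_comm 2 k, pow_mul,
        pow_mul, hk, ← pow_mul, mul_comm 2 q, pow_mul, pow_q_pow_q hF]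
    rwa [e] at h3
  have h0 : R hF H v 0 ((m : ZMod (2 * m)) + 1) := fun a => hall a
  have hR := R.all hm hv hwH hγ0 hw h0
  apply eq_top_of_WS (hF := hF) (by omega) hv hwH hγ0 hw
  intro x hx
  rw [W.expand hc x]
  apply AddSubgroup.sum_mem
  intro j _
  by_cases hj0 : j = 0
  · rw [hj0]; exact mem_WS_self _ _
  · by_cases hjm : j = (m : ZMod (2 * m))
    · rw [hjm, two_half, hx, zero_smul]
      exact AddSubgroup.zero_mem _
    · exact ⟨0, hR 0 j hj0 (by rwa [zero_add]) _⟩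

omit [Fintype F] [NeZero m] [NeZero (2 * m)] in
theorem dg_nat {i j : ℕ} (hi : i < m) (hj : j < 2 * m) (h1 : j ≠ i) (h2 : j ≠ i + m) (a b : F) :
    dg (i : ZMod (2 * m)) a b (j : ZMod (2 * m)) = 1 := by
  rw [dg_other]
  · rw [Ne, cast_inj (by omega) (by omega)]; exact h1
  · rw [← Nat.cast_add, Ne, cast_inj (by omega) (by omega)]; exact h2

omit [Fintype F] [NeZero (2 * m)] in
theorem dg_nat_self (i : ℕ) (a b : F) : dg (i : ZMod (2 * m)) a b (i : ZMod (2 * m)) = a :=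
  dg_self _ _ _

omit [Fintype F] [NeZero (2 * m)] in
theorem dg_nat_half (i : ℕ) (a b : F) : dg (i : ZMod (2 * m)) a b ((i + m : ℕ) : ZMod (2 * m)) = b := by
  rw [Nat.cast_add, dg_half]

/-- A noncentral diagonal element commuting with the Siegel element. -/
theorem even_cent (hF : Fintype.card F = q ^ 2) (hm : 2 ≤ m)
    (hq : 4 ≤ q ∨ (3 ≤ m ∧ 3 ≤ q) ∨ (4 ≤ m ∧ q = 2))
    (W : Witt q (fun j => j + (m : ZMod (2 * m))) v) {γ : ZMod (2 * m) → F} (hγ0 : ∀ j, γ j ≠ 0)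
    {w : SU (2 * m) F q} (hw : ∀ j, act w (v j) = γ j • v (j + 1))
    (hk : IsSiegel q (v 0) (v ((m : ZMod (2 * m)) + 1)) (0 : F)) :
    ∃ h : SU (2 * m) F q, h ∈ (Tz v : Subgroup (SU (2 * m) F q)) ∧
      h * siegel hF (v 0) (v ((m : ZMod (2 * m)) + 1)) 0 hk =
        siegel hF (v 0) (v ((m : ZMod (2 * m)) + 1)) 0 hk * h ∧
      h ∉ Subgroup.center (SU (2 * m) F q) := by
  have hv : Std q v := W.gram
  have hv0 : ∀ i, v i ≠ 0 := by
    intro i h0
    have := hv.pair i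
    rw [h0, herm_zero_left] at this
    exact zero_ne_one this
  have key : ∀ (i0 i1 : ℕ) (a b s t c d : F) (i : ℕ), a ≠ 0 → b ≠ 0 →
      a * b = a ^ q * b ^ q →
      dg (i0 : ZMod (2 * m)) a (a ^ q)⁻¹ ((0 : ℕ) : ZMod (2 * m)) *
        dg (i1 : ZMod (2 * m)) b (b ^ q)⁻¹ ((0 : ℕ) : ZMod (2 * m)) = s →
      dg (i0 : ZMod (2 * m)) a (a ^ q)⁻¹ ((m + 1 : ℕ) : ZMod (2 * m)) *
        dg (i1 : ZMod (2 * m)) b (b ^ q)⁻¹ ((m + 1 : ℕ) : ZMod (2 * m)) = t →
      s ^ q * t = 1 →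
      dg (i0 : ZMod (2 * m)) a (a ^ q)⁻¹ (i : ZMod (2 * m)) *
        dg (i1 : ZMod (2 * m)) b (b ^ q)⁻¹ (i : ZMod (2 * m)) = c →
      dg (i0 : ZMod (2 * m)) a (a ^ q)⁻¹ ((i + 1 : ℕ) : ZMod (2 * m)) *
        dg (i1 : ZMod (2 * m)) b (b ^ q)⁻¹ ((i + 1 : ℕ) : ZMod (2 * m)) = d → c ≠ d →
      ∃ h : SU (2 * m) F q, h ∈ (Tz v : Subgroup (SU (2 * m) F q)) ∧
      h * siegel hF (v 0) (v ((m : ZMod (2 * m)) + 1)) 0 hk =
        siegel hF (v 0) (v ((m : ZMod (2 * m)) + 1)) 0 hk * h ∧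
      h ∉ Subgroup.center (SU (2 * m) F q) := by
    intro i0 i1 a b s t c d i ha hb hab h1 h2 h3 h4 h5 h6
    obtain ⟨S, hST, hS⟩ := exists_two hF W (i0 : ZMod (2 * m)) (i1 : ZMod (2 * m)) ha hb hab
    have hS' : ∀ j : ℕ, act S (v (j : ZMod (2 * m))) = (dg (i0 : ZMod (2 * m)) a (a ^ q)⁻¹ (j : ZMod (2 * m)) *
        dg (i1 : ZMod (2 * m)) b (b ^ q)⁻¹ (j : ZMod (2 * m))) • v (j : ZMod (2 * m)) := fun j => hS _
    refine ⟨S, hST, ?_, ?_⟩
    · refine comm_of_eig hk (s := s) (t := t) ?_ ?_ h3 (mul_zero _) (Or.inr ⟨rfl, hv.iso _⟩)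
      · have := hS' 0
        rw [h1, Nat.cast_zero] at this
        exact this
      · have := hS' (m + 1)
        rw [h2, Nat.cast_add, Nat.cast_one] at this
        exact this
    · refine not_mem_center (x := v (i : ZMod (2 * m))) (y := v ((i : ZMod (2 * m)) + 1)) (a := c) (b := d)
        (hv0 _) (hγ0 _) (hw _) ?_ ?_ h6
      · rw [hS', h4]
      · have := hS' (i + 1)
        rw [h5, Nat.cast_add, Nat.cast_one] at this
        exact this
  have h2 := two_le hF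
  have big : 3 ≤ m → 3 ≤ q → ∃ h : SU (2 * m) F q, h ∈ (Tz v : Subgroup (SU (2 * m) F q)) ∧
      h * siegel hF (v 0) (v ((m : ZMod (2 * m)) + 1)) 0 hk =
        siegel hF (v 0) (v ((m : ZMod (2 * m)) + 1)) 0 hk * h ∧
      h ∉ Subgroup.center (SU (2 * m) F q) := by
    intro hm3 hq
    obtain ⟨s, hs0, hsq, hs⟩ := exists_sub_ne_one hF hq
    have hone : ∀ j : ZMod (2 * m), dg ((0 : ℕ) : ZMod (2 * m)) (1 : F) (1 ^ q)⁻¹ j = 1 := by
      intro j
      rw [one_pow, inv_one, dg_one]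
    refine key 2 0 s 1 1 1 1 s 1 hs0 one_ne_zero ?_ ?_ ?_ ?_ ?_ ?_ ?_
    · rw [hsq, one_pow]
    · rw [hone, mul_one, dg_nat (by omega) (by omega) (by omega) (by omega)]
    · rw [hone, mul_one, dg_nat (by omega) (by omega) (by omega) (by omega)]
    · rw [one_pow, one_mul]
    · rw [hone, mul_one, dg_nat (by omega) (by omega) (by omega) (by omega)]
    · rw [hone, mul_one, dg_nat_self]
    · exact hs.symm
  rcases hq with hq | ⟨hm3, hq⟩ | ⟨hm4, hq⟩
  · rcases Nat.lt_or_ge m 3 with hm3 | hm3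
    · -- `m = 2`
      obtain ⟨s, hs0, hsq, hs⟩ := exists_sub_sq_ne_one hF hq
      have hm2 : m = 2 := by omega
      refine key 0 1 s s s (s ^ q)⁻¹ s (s ^ q)⁻¹ 1 hs0 hs0 ?_ ?_ ?_ ?_ ?_ ?_ ?_
      · rw [hsq]
      · rw [dg_nat_self, dg_nat (by omega) (by omega) (by omega) (by omega), mul_one]
      · rw [dg_nat (by omega) (by omega) (by omega) (by omega), one_mul]
        rw [add_comm m 1, dg_nat_half]
      · exact mul_inv_cancel₀ (pow_ne_zero _ hs0)
      · rw [dg_nat (by omega) (by omega) (by omega) (by omega), one_mul, dg_nat_self]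
      · rw [dg_nat (i := 1) (by omega) (by omega) (by omega) (by omega), mul_one]
        rw [show 1 + 1 = 0 + m by omega, dg_nat_half]
      · rw [hsq]
        intro h
        apply hs
        rw [pow_two]
        nth_rewrite 2 [h]
        exact mul_inv_cancel₀ hs0
    · exact big hm3 (by omega)
  · exact big hm3 hq
  · -- `q = 2`
    obtain ⟨z, hz0, hz1, hz2⟩ := exists_gen hF
    have hz3 : z ^ 3 = 1 := by
      have := FiniteField.pow_card_sub_one_eq_one z hz0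
      rwa [hF, hq] at this
    have hzz : z ≠ 1 := by
      have := hz2 1 one_pos (by rw [hq]; norm_num)
      rwa [pow_one] at this
    have hzi : z⁻¹ ≠ 0 := inv_ne_zero hz0
    refine key 2 3 z z⁻¹ 1 1 1 z 1 hz0 hzi ?_ ?_ ?_ ?_ ?_ ?_ ?_
    · rw [inv_pow, mul_inv_cancel₀ hz0, mul_inv_cancel₀ (pow_ne_zero _ hz0)]
    · rw [dg_nat (by omega) (by omega) (by omega) (by omega),
        dg_nat (by omega) (by omega) (by omega) (by omega), mul_one]
    · rw [dg_nat (by omega) (by omega) (by omega) (by omega),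
        dg_nat (by omega) (by omega) (by omega) (by omega), mul_one]
    · rw [one_pow, one_mul]
    · rw [dg_nat (by omega) (by omega) (by omega) (by omega),
        dg_nat (by omega) (by omega) (by omega) (by omega), mul_one]
    · rw [dg_nat_self, dg_nat (by omega) (by omega) (by omega) (by omega), mul_one]
    · exact hzz.symm

end Even

end Cfsg.Agent.H911.DG
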